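import Mathlib.RingTheory.Etale.Basic
import Mathlib.RingTheory.Unramified.LocalRing
import Mathlib.RingTheory.EssentialFiniteness
import Mathlib.RingTheory.Ideal.KrullsHeightTheorem
import Mathlib.RingTheory.Ideal.GoingDown
import Mathlib.RingTheory.Flat.Localization
import Mathlib.RingTheory.RegularLocalRing.Defs
import Mathlib.RingTheory.Smooth.Flat
import Groth.Agent.SerreReg.Descent
import Groth.Agent.Hensel.HenselizationNoeth

/-!
# Noetherianity and regularity of local rings along etale maps
-/

set_option autoImplicit false
set_option linter.style.haveILetI false

universe u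

open IsLocalRing

namespace Groth.Agent.EtaleLoc

variable (A B : Type u) [CommRing A] [CommRing B] [Algebra A B] [Algebra.Etale A B] (q : Ideal B) [q.IsPrime]

theorem noetherian_iff :
    IsNoetherianRing (Localization.AtPrime (q.under A)) ↔ IsNoetherianRing (Localization.AtPrime q) := by
  let p := q.under A
  letI := Localization.AtPrime.algebraOfLiesOver p q
  constructor
  · intro h
    haveI : Algebra.EssFiniteType A (Localization.AtPrime q) :=
      haveI : Algebra.EssFiniteType B (Localization.AtPrime q) :=
        Algebra.EssFiniteType.of_isLocalization _ q.primeCompl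
      Algebra.EssFiniteType.comp A B _
    haveI : Algebra.EssFiniteType (Localization.AtPrime p) (Localization.AtPrime q) := .of_comp A _ _
    exact Algebra.EssFiniteType.isNoetherianRing (Localization.AtPrime p) (Localization.AtPrime q)
  · intro h
    haveI : IsLocalHom (algebraMap (Localization.AtPrime p) (Localization.AtPrime q)) := by
      rw [RingHom.algebraMap_toAlgebra]
      exact Localization.isLocalHom_localRingHom p q (algebraMap A B) Ideal.LiesOver.over
    haveI : Module.FaithfullyFlat (Localization.AtPrime p) (Localization.AtPrime q) :=
      Module.FaithfullyFlat.of_flat_of_isLocalHom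
    exact Groth.Agent.Hensel.isNoetherianRing_of_faithfullyFlat (R := Localization.AtPrime p) (S := Localization.AtPrime q)

theorem regular_iff :
    IsRegularLocalRing (Localization.AtPrime (q.under A)) ↔ IsRegularLocalRing (Localization.AtPrime q) := by
  let p := q.under A
  letI := Localization.AtPrime.algebraOfLiesOver p q
  haveI : IsLocalHom (algebraMap (Localization.AtPrime p) (Localization.AtPrime q)) := by
    rw [RingHom.algebraMap_toAlgebra]
    exact Localization.isLocalHom_localRingHom p q (algebraMap A B) Ideal.LiesOver.over
  constructor
  · intro h
    haveI := (noetherian_iff A B q).mp inferInstance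
    have hmap : (maximalIdeal (Localization.AtPrime p)).map
        (algebraMap (Localization.AtPrime p) (Localization.AtPrime q)) = maximalIdeal _ := by
      rw [← Localization.AtPrime.map_eq_maximalIdeal, Ideal.map_map,
        ← IsScalarTower.algebraMap_eq A (Localization.AtPrime p) (Localization.AtPrime q)]
      exact ((Algebra.isUnramifiedAt_iff_map_eq A p q).mp inferInstance).2
    refine IsRegularLocalRing.of_spanFinrank_maximalIdeal_le _ ?_
    have h1 : ((maximalIdeal (Localization.AtPrime q)).spanFinrank) ≤
        (maximalIdeal (Localization.AtPrime p)).spanFinrank := by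
      rw [← hmap]
      exact Ideal.spanFinrank_map_le_of_fg _ (IsNoetherian.noetherian _)
    refine (WithBot.coe_le_coe.mpr (ENat.coe_le_coe.mpr h1)).trans ?_
    refine (le_of_eq (IsRegularLocalRing.spanFinrank_maximalIdeal (R := Localization.AtPrime p))).trans ?_
    rw [← IsLocalRing.maximalIdeal_height_eq_ringKrullDim, ← IsLocalRing.maximalIdeal_height_eq_ringKrullDim]
    refine WithBot.coe_le_coe.mpr ?_
    haveI : (maximalIdeal (Localization.AtPrime q)).LiesOver (maximalIdeal (Localization.AtPrime p)) :=
      ⟨(IsLocalRing.maximalIdeal_comap (algebraMap (Localization.AtPrime p) (Localization.AtPrime q))).symm⟩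
    rw [Ideal.height_eq_height_add_of_liesOver_of_hasGoingDown (maximalIdeal (Localization.AtPrime p))
      (maximalIdeal (Localization.AtPrime q))]
    exact le_self_add
  · intro h
    haveI := (noetherian_iff A B q).mpr inferInstance
    exact Groth.Agent.SerreReg.isRegularLocalRing_of_flat (Localization.AtPrime p) (Localization.AtPrime q)

end Groth.Agent.EtaleLoc
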